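import Groth.Agent.Lib.ClosedEmb25.Basic
import Groth.Agent.Lib.LocZ.Sheaf
import Groth.Agent.Lib.SheafCoh.PushInj
import Groth.Prelude.Def_LocCohZ

/-! # Abelian sheaves and closed embeddings; sections with supports as a right adjoint -/

set_option autoImplicit false
set_option backward.isDefEq.respectTransparency false

universe u

open CategoryTheory CategoryTheory.Limits Opposite TopologicalSpace

namespace GrothLib.ClosedEmb

open GrothLib

section

variable {Z X : TopCat.{u}} {i : Z ⟶ X}

lemma isZero_iff_unique (M : AddCommGrpCat.{u}) : Nonempty (Unique (ToType M)) ↔ IsZero M := by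
  constructor
  · rintro ⟨u⟩
    exact @AddCommGrpCat.isZero_of_subsingleton M u.instSubsingleton
  · intro h
    have := AddCommGrpCat.subsingleton_of_isZero h
    exact ⟨uniqueOfSubsingleton (0 : M)⟩

theorem isZero_stalk_push (hi : Topology.IsClosedEmbedding i) (G : CohTop.Ab Z) {x : X}
    (hx : x ∉ Set.range i) : IsZero (CohTop.stalk ((CohTop.push i).obj G) x) :=
  (isZero_iff_unique _).1 (unique_stalk_push AddCommGrpCat.{u} hi G hx)

theorem isIso_unit_ab (hi : Topology.IsClosedEmbedding i) (F : CohTop.Ab X)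
    (h : ∀ x : X, x ∉ Set.range i → IsZero (CohTop.stalk F x)) :
    IsIso ((TopCat.Sheaf.pullbackPushforwardAdjunction AddCommGrpCat.{u} i).unit.app F) :=
  isIso_unit AddCommGrpCat.{u} hi F (fun x hx => (isZero_iff_unique _).2 (h x hx))

theorem essImage_iff_ab (hi : Topology.IsClosedEmbedding i) (F : CohTop.Ab X) :
    (CohTop.push i).essImage F ↔ ∀ x : X, x ∉ Set.range i → IsZero (CohTop.stalk F x) :=
  (essImage_iff AddCommGrpCat.{u} hi F).trans
    (forall_congr' fun x => imp_congr_right fun _ => isZero_iff_unique _)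

theorem preservesEpimorphisms_push (hi : Topology.IsClosedEmbedding i) :
    (CohTop.push i).PreservesEpimorphisms := by
  classical
  constructor
  intro G G' f hf
  let P := CohTop.push i
  let adj := TopCat.Sheaf.pullbackPushforwardAdjunction AddCommGrpCat.{u} i
  have hQ : IsIso (adj.unit.app (cokernel (P.map f))) := isIso_unit_ab hi _ fun x hx => by
    have : (stalkF AddCommGrpCat.{u} x).IsLeftAdjoint :=
      (stalkSkyscraperSheafAdjunction (C := AddCommGrpCat.{u}) x).isLeftAdjoint
    have : Epi ((stalkF AddCommGrpCat.{u} x).map (cokernel.π (P.map f))) :=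
      (stalkF AddCommGrpCat.{u} x).map_epi _
    exact IsZero.of_epi ((stalkF AddCommGrpCat.{u} x).map (cokernel.π (P.map f)))
      (isZero_stalk_push hi G' hx)
  have hpf : Epi ((CohTop.pull i).map (P.map f)) := by
    have := isIso_counit AddCommGrpCat.{u} hi.isInducing G
    have := isIso_counit AddCommGrpCat.{u} hi.isInducing G'
    have hn : (CohTop.pull i).map (P.map f) ≫ adj.counit.app G' = adj.counit.app G ≫ f :=
      adj.counit.naturality f
    have : Epi ((CohTop.pull i).map (P.map f) ≫ adj.counit.app G') := by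
      rw [hn]; exact epi_comp _ _
    have h2 : (CohTop.pull i).map (P.map f) =
        ((CohTop.pull i).map (P.map f) ≫ adj.counit.app G') ≫ inv (adj.counit.app G') := by
      rw [Category.assoc, IsIso.hom_inv_id]; exact (Category.comp_id _).symm
    rw [h2]
    exact epi_comp _ _
  apply Preadditive.epi_of_cokernel_zero
  have : (CohTop.pull i).IsLeftAdjoint := adj.isLeftAdjoint
  have : PreservesLimitsOfSize.{0, 0} P := adj.rightAdjoint_preservesLimits
  have : (TopCat.Sheaf.pushforward AddCommGrpCat.{u} i).Additive := inferInstanceAs (CohTop.push i).Additive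
  have : (CohTop.pull i).Additive := adj.left_adjoint_additive
  have h0 : (CohTop.pull i).map (cokernel.π (P.map f)) = 0 := by
    apply hpf.left_cancellation
    rw [← Functor.map_comp, cokernel.condition, comp_zero]
    exact Functor.map_zero _ _ _
  have : (CohTop.pull i).PreservesEpimorphisms := inferInstance
  have : Epi ((CohTop.pull i).map (cokernel.π (P.map f))) := (CohTop.pull i).map_epi _
  rw [← cancel_mono (adj.unit.app (cokernel (P.map f))), zero_comp]
  refine (adj.unit.naturality (cokernel.π (P.map f))).trans ?_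
  change _ ≫ P.map ((CohTop.pull i).map (cokernel.π (P.map f))) = 0
  rw [h0, Functor.map_zero, comp_zero]

theorem preservesFiniteColimits_push (hi : Topology.IsClosedEmbedding i) :
    PreservesFiniteColimits (CohTop.push i) :=
  have := preservesEpimorphisms_push hi
  have : PreservesLimitsOfSize.{0, 0} (CohTop.push i) :=
    (TopCat.Sheaf.pullbackPushforwardAdjunction AddCommGrpCat.{u} i).rightAdjoint_preservesLimits
  have := Functor.preservesHomology_of_preservesEpis_and_kernels (CohTop.push i)
  (((CohTop.push i).exact_tfae.out 2 3 :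
    (CohTop.push i).PreservesHomology ↔
      PreservesFiniteLimits (CohTop.push i) ∧ PreservesFiniteColimits (CohTop.push i)).1 this).2

end

section

variable {X : TopCat.{u}} (U : Opens X)

theorem isClosedEmbedding_inclCompl : Topology.IsClosedEmbedding (CohCx.inclCompl U) :=
  U.isOpen.isClosed_compl.isClosedEmbedding_subtypeVal

theorem isZero_stalk_sectSupp (F : CohTop.Ab X) {x : X} (hx : x ∈ U) :
    IsZero (CohTop.stalk (CohCx.sectSupp U F) x) := by
  refine (isZero_iff_unique _).1 (unique_stalk_of_forall AddCommGrpCat.{u} _ x U hx fun W hW => ?_)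
  refine ⟨⟨⟨(0 : (CohCx.sectSupp U F).obj.obj (op W))⟩, fun t => ?_⟩⟩
  apply LocZ.ι_injective U F W
  refine Eq.trans ?_ (map_zero _).symm
  have h := LocZ.ι_vanish U F W t
  have : IsIso (homOfLE (inf_le_left : W ⊓ U ≤ W)) :=
    ⟨homOfLE (le_inf le_rfl hW), Subsingleton.elim _ _, Subsingleton.elim _ _⟩
  exact ((ConcreteCategory.isIso_iff_bijective _).1
    (inferInstanceAs (IsIso (F.obj.map (homOfLE (inf_le_left : W ⊓ U ≤ W)).op)))).1
      (h.trans (map_zero _).symm)

theorem isIso_unit_sectSupp (F : CohTop.Ab X) :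
    IsIso ((TopCat.Sheaf.pullbackPushforwardAdjunction AddCommGrpCat.{u} (CohCx.inclCompl U)).unit.app
      (CohCx.sectSupp U F)) :=
  isIso_unit_ab (isClosedEmbedding_inclCompl U) _ fun x hx => isZero_stalk_sectSupp U F (by
    by_contra h
    exact hx ⟨⟨x, h⟩, rfl⟩)

theorem push_comp_η (G : CohTop.Ab (TopCat.of ((U : Set X)ᶜ : Set X))) (F : CohTop.Ab X)
    (φ : (CohTop.push (CohCx.inclCompl U)).obj G ⟶ F) : φ ≫ LocZ.η U F = 0 := by
  apply Sheaf.hom_ext
  ext ⟨W⟩ s
  change (LocZ.η U F).hom.app (op W) (φ.hom.app (op W) s) = _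
  refine ((LocZ.η_eq_zero_iff U F W _).2 ?_).trans rfl
  refine (ConcreteCategory.congr_hom (φ.hom.naturality (homOfLE (inf_le_left : W ⊓ U ≤ W)).op) s).symm.trans ?_
  have he : (Opens.map (CohCx.inclCompl U)).obj (W ⊓ U) = ⊥ := eq_bot_iff.2 fun z hz => z.2 hz.2
  obtain ⟨u⟩ := subsingleton_of_isTerminal AddCommGrpCat.{u} (TopCat.Sheaf.isTerminalOfEqEmpty G he)
  exact (congrArg (φ.hom.app (op (W ⊓ U))) (@Subsingleton.elim _ u.instSubsingleton _ 0)).trans
    (map_zero _)

/-- The candidate counit. -/
noncomputable def supCounit (F : CohTop.Ab X) :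
    (CohTop.push (CohCx.inclCompl U)).obj ((LocCohZ.sectSuppF U ⋙ CohTop.pull (CohCx.inclCompl U)).obj F) ⟶ F :=
  have := isIso_unit_sectSupp U F
  inv ((TopCat.Sheaf.pullbackPushforwardAdjunction AddCommGrpCat.{u} (CohCx.inclCompl U)).unit.app
      (CohCx.sectSupp U F)) ≫ kernel.ι (LocZ.η U F)

lemma supCounit_naturality {F F' : CohTop.Ab X} (g : F ⟶ F') :
    (CohTop.push (CohCx.inclCompl U)).map ((LocCohZ.sectSuppF U ⋙ CohTop.pull (CohCx.inclCompl U)).map g) ≫
      supCounit U F' = supCounit U F ≫ g := by
  have := isIso_unit_sectSupp U F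
  have := isIso_unit_sectSupp U F'
  let adj := TopCat.Sheaf.pullbackPushforwardAdjunction AddCommGrpCat.{u} (CohCx.inclCompl U)
  have hn : (LocCohZ.sectSuppF U).map g ≫ adj.unit.app (CohCx.sectSupp U F') =
      adj.unit.app (CohCx.sectSupp U F) ≫ (CohTop.push (CohCx.inclCompl U)).map
        ((CohTop.pull (CohCx.inclCompl U)).map ((LocCohZ.sectSuppF U).map g)) :=
    adj.unit.naturality _
  have hι : (LocCohZ.sectSuppF U).map g ≫ kernel.ι (LocZ.η U F') = kernel.ι (LocZ.η U F) ≫ g :=
    kernel.lift_ι _ _ _
  rw [supCounit, supCounit, Category.assoc, ← hι, IsIso.eq_inv_comp, ← Category.assoc]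
  erw [← hn]
  rw [Category.assoc, IsIso.hom_inv_id_assoc]

lemma homMap_bijective (G : CohTop.Ab (TopCat.of ((U : Set X)ᶜ : Set X))) (F : CohTop.Ab X) :
    Function.Bijective (fun ψ : G ⟶ (LocCohZ.sectSuppF U ⋙ CohTop.pull (CohCx.inclCompl U)).obj F =>
      (CohTop.push (CohCx.inclCompl U)).map ψ ≫ supCounit U F) := by
  have := isIso_unit_sectSupp U F
  have hff := pushFullyFaithful (C := AddCommGrpCat.{u}) (isClosedEmbedding_inclCompl U).isInducing
  let e := (TopCat.Sheaf.pullbackPushforwardAdjunction AddCommGrpCat.{u} (CohCx.inclCompl U)).unit.app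
    (CohCx.sectSupp U F)
  constructor
  · intro a b hab
    apply hff.map_injective
    have hab' : ((CohTop.push (CohCx.inclCompl U)).map a ≫ inv e) ≫ kernel.ι (LocZ.η U F) =
        ((CohTop.push (CohCx.inclCompl U)).map b ≫ inv e) ≫ kernel.ι (LocZ.η U F) :=
      (Category.assoc _ _ _).trans (hab.trans (Category.assoc _ _ _).symm)
    exact (cancel_mono (inv e)).1 ((cancel_mono (kernel.ι (LocZ.η U F))).1 hab')
  · intro φ
    let l := kernel.lift (LocZ.η U F) φ (push_comp_η U G F φ)
    refine ⟨hff.preimage (l ≫ e), ?_⟩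
    change (CohTop.push (CohCx.inclCompl U)).map _ ≫ inv e ≫ kernel.ι (LocZ.η U F) = φ
    rw [hff.map_preimage]
    change (l ≫ e) ≫ _ = φ
    rw [Category.assoc, IsIso.hom_inv_id_assoc]
    exact kernel.lift_ι _ _ _

/-- Direct image from the closed complement is left adjoint to sections with supports. -/
noncomputable def pushSuppAdj :
    CohTop.push (CohCx.inclCompl U) ⊣ LocCohZ.sectSuppF U ⋙ CohTop.pull (CohCx.inclCompl U) :=
  Adjunction.mkOfHomEquiv
    { homEquiv := fun G F => (Equiv.ofBijective _ (homMap_bijective U G F)).symm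
      homEquiv_naturality_left_symm := fun f g => by
        change (CohTop.push (CohCx.inclCompl U)).map (f ≫ g) ≫ _ =
          (CohTop.push (CohCx.inclCompl U)).map f ≫ (CohTop.push (CohCx.inclCompl U)).map g ≫ _
        rw [Functor.map_comp, Category.assoc]
      homEquiv_naturality_right := fun {G F F'} f g => by
        apply (homMap_bijective U G F').1
        change Equiv.ofBijective _ (homMap_bijective U G F') ((Equiv.ofBijective _ _).symm (f ≫ g)) =
          (CohTop.push (CohCx.inclCompl U)).map (_ ≫ _) ≫ _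
        rw [Equiv.apply_symm_apply, Functor.map_comp, Category.assoc, supCounit_naturality,
          ← Category.assoc]
        exact congrArg (· ≫ g) ((Equiv.ofBijective _ (homMap_bijective U G F)).apply_symm_apply f).symm }

theorem injective_HZ (I : CohTop.Ab X) [Injective I] : Injective (CohCx.HZ U I) :=
  have : PreservesLimitsOfSize.{0, 0} (CohTop.push (CohCx.inclCompl U)) :=
    (TopCat.Sheaf.pullbackPushforwardAdjunction AddCommGrpCat.{u}
      (CohCx.inclCompl U)).rightAdjoint_preservesLimits
  have : (CohTop.push (CohCx.inclCompl U)).PreservesMonomorphisms :=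
    preservesMonomorphisms_of_preservesLimitsOfShape _
  Injective.injective_of_adjoint (pushSuppAdj U) I

theorem injective_sectSupp (I : CohTop.Ab X) [Injective I] : Injective (CohCx.sectSupp U I) :=
  have := isIso_unit_sectSupp U I
  have := injective_HZ U I
  have := SheafCoh.injective_push (CohCx.inclCompl U) (CohCx.HZ U I)
  Injective.of_iso (asIso ((TopCat.Sheaf.pullbackPushforwardAdjunction AddCommGrpCat.{u}
    (CohCx.inclCompl U)).unit.app (CohCx.sectSupp U I))).symm this

end

end GrothLib.ClosedEmb
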