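import Mathlib.Topology.Sheaves.Functors
import Mathlib.Topology.Sheaves.Skyscraper
import Mathlib.Topology.Sheaves.Stalks
import Mathlib.Topology.Sheaves.SheafCondition.Sites
import Mathlib.Topology.Category.TopCat.Opens
import Mathlib.CategoryTheory.Adjunction.FullyFaithful
import Mathlib.CategoryTheory.Adjunction.Unique

/-! # Direct image along inducing maps and closed embeddings -/

set_option autoImplicit false

universe u

open CategoryTheory CategoryTheory.Limits Opposite TopologicalSpace

namespace GrothLib.ClosedEmb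

variable {Z X : TopCat.{u}} {i : Z ⟶ X}

section

variable {C : Type*} [Category* C] (hi : Topology.IsInducing i)

lemma paste {D : Type*} [Category* D] {p₀ p₁ a₀ a₁ b₀ b₁ q₀ q₁ : D} {p : p₀ ⟶ p₁} {a' : p₁ ⟶ a₁}
    {a : p₀ ⟶ a₀} {m : a₀ ⟶ a₁} {x : a₀ ⟶ b₀} {x' : a₁ ⟶ b₁} {n : b₀ ⟶ b₁} {b : b₀ ⟶ q₀} {b' : b₁ ⟶ q₁}
    {q : q₀ ⟶ q₁} (e₁ : p ≫ a' = a ≫ m) (hn : m ≫ x' = x ≫ n) (e₂ : n ≫ b' = b ≫ q) :
    p ≫ a' ≫ x' ≫ b' = (a ≫ x ≫ b) ≫ q := by
  rw [reassoc_of% e₁, reassoc_of% hn, e₂, Category.assoc, Category.assoc]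

/-- A map between direct images, evaluated on the largest open with a given trace. -/
noncomputable def preimageApp {G G' : Z.Sheaf C}
    (φ : (TopCat.Sheaf.pushforward C i).obj G ⟶ (TopCat.Sheaf.pushforward C i).obj G') (W : Opens Z) :
    G.obj.obj (op W) ⟶ G'.obj.obj (op W) :=
  G.obj.map (eqToHom (congrArg op (hi.map_functorObj W).symm)) ≫ φ.hom.app (op (hi.functorObj W)) ≫
    G'.obj.map (eqToHom (congrArg op (hi.map_functorObj W)))

/-- Direct image along an inducing map is fully faithful. -/
noncomputable def pushFullyFaithful : (TopCat.Sheaf.pushforward C i).FullyFaithful where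
  preimage {G G'} φ := ObjectProperty.homMk
    { app := fun W => preimageApp hi φ W.unop
      naturality := fun W W' g => by
        let m := ((Opens.map i).map (hi.functor.map g.unop)).op
        have hn : G.obj.map m ≫ φ.hom.app (op (hi.functorObj W'.unop)) =
            φ.hom.app (op (hi.functorObj W.unop)) ≫ G'.obj.map m :=
          φ.hom.naturality (hi.functor.map g.unop).op
        let a := eqToHom (congrArg op (hi.map_functorObj W.unop).symm)
        let b' := eqToHom (congrArg op (hi.map_functorObj W'.unop))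
        let b := eqToHom (congrArg op (hi.map_functorObj W.unop))
        let a' := eqToHom (congrArg op (hi.map_functorObj W'.unop).symm)
        have e₁ : G.obj.map g ≫ G.obj.map a' = G.obj.map a ≫ G.obj.map m := by
          rw [← G.obj.map_comp, ← G.obj.map_comp]; rfl
        have e₂ : G'.obj.map m ≫ G'.obj.map b' = G'.obj.map b ≫ G'.obj.map g := by
          rw [← G'.obj.map_comp, ← G'.obj.map_comp]; rfl
        change G.obj.map g ≫ G.obj.map a' ≫ φ.hom.app _ ≫ G'.obj.map b' =
          (G.obj.map a ≫ φ.hom.app _ ≫ G'.obj.map b) ≫ G'.obj.map g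
        exact paste e₁ hn e₂ }
  map_preimage {G G'} φ := by
    apply ObjectProperty.hom_ext
    ext ⟨V⟩ : 2
    let k : V ⟶ hi.functorObj ((Opens.map i).obj V) := (hi.adjunction.unit.app V)
    have hn := φ.hom.naturality k.op
    change G.obj.map ((Opens.map i).map k).op ≫ _ = _ ≫ G'.obj.map ((Opens.map i).map k).op at hn
    change preimageApp hi φ ((Opens.map i).obj V) = φ.hom.app (op V)
    dsimp [preimageApp]
    rw [Subsingleton.elim (eqToHom (congrArg op (hi.map_functorObj ((Opens.map i).obj V))))
      ((Opens.map i).map k).op, ← hn, ← G.obj.map_comp_assoc,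
      Subsingleton.elim (_ ≫ _) (𝟙 (op ((Opens.map i).obj V))), G.obj.map_id, Category.id_comp]
  preimage_map {G G'} f := by
    apply ObjectProperty.hom_ext
    ext ⟨W⟩ : 2
    change preimageApp hi _ W = f.hom.app (op W)
    dsimp [preimageApp]
    rw [← f.hom.naturality, ← G.obj.map_comp_assoc, Subsingleton.elim (_ ≫ _) (𝟙 (op W)), G.obj.map_id,
      Category.id_comp]

include hi in
theorem full : (TopCat.Sheaf.pushforward C i).Full := (pushFullyFaithful hi).full

include hi in
theorem faithful : (TopCat.Sheaf.pushforward C i).Faithful := (pushFullyFaithful hi).faithful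

end

section

variable (A : Type (u + 1)) [Category.{u} A] {FA : A → A → Type u} {CA : A → Type u}
variable [∀ X Y, FunLike (FA X Y) (CA X) (CA Y)] [ConcreteCategory.{u} A FA] [HasColimits A]
variable [HasLimits A] [PreservesLimits (CategoryTheory.forget A)]
variable [PreservesFilteredColimits (CategoryTheory.forget A)]
variable [(CategoryTheory.forget A).ReflectsIsomorphisms]

theorem isIso_counit (hi : Topology.IsInducing i) (G : Z.Sheaf A) :
    IsIso ((TopCat.Sheaf.pullbackPushforwardAdjunction A i).counit.app G) :=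
  have := full (C := A) hi
  have := faithful (C := A) hi
  inferInstance

/-- The stalk functor of a point of the source. -/
noncomputable abbrev stalkF {X : TopCat.{u}} (x : X) : X.Sheaf A ⥤ A :=
  TopCat.Sheaf.forget A X ⋙ TopCat.Presheaf.stalkFunctor A x

open scoped Classical in
/-- Skyscrapers push forward to skyscrapers. -/
noncomputable def skyPushIso (z : Z) :
    (skyscraperSheafFunctor z : A ⥤ Z.Sheaf A) ⋙ TopCat.Sheaf.pushforward A i ≅
      skyscraperSheafFunctor (i z) :=
  NatIso.ofComponents (fun _ => Iso.refl _) (fun f => by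
    erw [Category.comp_id, Category.id_comp]
    rfl)

open scoped Classical in
/-- Inverse image does not change stalks. -/
noncomputable def stalkPullNatIso (z : Z) :
    TopCat.Sheaf.pullback A i ⋙ stalkF A z ≅ stalkF A (i z) :=
  Adjunction.leftAdjointUniq
    (((TopCat.Sheaf.pullbackPushforwardAdjunction A i).comp
      (stalkSkyscraperSheafAdjunction (C := A) z)).ofNatIsoRight (skyPushIso A z))
    (stalkSkyscraperSheafAdjunction (C := A) (i z))

theorem isIso_stalk_of_isIso_pull_map (z : Z) {F F' : X.Sheaf A} (α : F ⟶ F')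
    [IsIso ((TopCat.Sheaf.pullback A i).map α)] : IsIso ((stalkF A (i z)).map α) :=
  (NatIso.isIso_map_iff (stalkPullNatIso A (i := i) z) α).1
    (inferInstanceAs (IsIso ((stalkF A z).map ((TopCat.Sheaf.pullback A i).map α))))

set_option linter.unusedSectionVars false in
theorem subsingleton_of_isTerminal {T : A} (hT : IsTerminal T) : Nonempty (Unique (ToType T)) :=
  ⟨Types.isTerminalEquivUnique _ (hT.isTerminalObj (CategoryTheory.forget A) T)⟩

theorem unique_stalk_of_forall {X : TopCat.{u}} (F : X.Presheaf A) (x : X) (V : Opens X) (hx : x ∈ V)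
    (hV : ∀ W : Opens X, W ≤ V → Nonempty (Unique (ToType (F.obj (op W))))) :
    Nonempty (Unique (ToType (TopCat.Presheaf.stalk F x))) := by
  obtain ⟨h0⟩ := hV V le_rfl
  refine ⟨⟨⟨F.germ V x hx h0.default⟩, fun t => ?_⟩⟩
  obtain ⟨W, hW, s, rfl⟩ := F.exists_germ_eq t
  obtain ⟨h1⟩ := hV (W ⊓ V) inf_le_right
  exact TopCat.Presheaf.germ_ext F (W ⊓ V) ⟨hW, hx⟩ (homOfLE inf_le_left) (homOfLE inf_le_right)
    (@Subsingleton.elim _ h1.instSubsingleton _ _)

theorem unique_stalk_push (hi : Topology.IsClosedEmbedding i) (G : Z.Sheaf A) {x : X}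
    (hx : x ∉ Set.range i) :
    Nonempty (Unique (ToType (((TopCat.Sheaf.pushforward A i).obj G).presheaf.stalk x))) := by
  let V : Opens X := ⟨(Set.range i)ᶜ, hi.isClosed_range.isOpen_compl⟩
  refine unique_stalk_of_forall A _ x V hx fun W hW => ?_
  have he : (Opens.map i).obj W = ⊥ := eq_bot_iff.2 fun z hz => hW hz ⟨z, rfl⟩
  exact subsingleton_of_isTerminal A (TopCat.Sheaf.isTerminalOfEqEmpty G he)

theorem isIso_unit (hi : Topology.IsClosedEmbedding i) (F : X.Sheaf A)
    (h : ∀ x : X, x ∉ Set.range i → Nonempty (Unique (ToType (F.presheaf.stalk x)))) :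
    IsIso ((TopCat.Sheaf.pullbackPushforwardAdjunction A i).unit.app F) := by
  have : ∀ x : X, IsIso ((stalkF A x).map ((TopCat.Sheaf.pullbackPushforwardAdjunction A i).unit.app F)) := by
    intro x
    by_cases hx : x ∈ Set.range i
    · obtain ⟨z, rfl⟩ := hx
      have := isIso_counit A hi.isInducing ((TopCat.Sheaf.pullback A i).obj F)
      have hh := (TopCat.Sheaf.pullbackPushforwardAdjunction A i).left_triangle_components F
      have hid : IsIso (𝟙 ((TopCat.Sheaf.pullback A i).obj F)) := IsIso.id _
      have : IsIso ((TopCat.Sheaf.pullback A i).map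
          ((TopCat.Sheaf.pullbackPushforwardAdjunction A i).unit.app F)) :=
        IsIso.of_isIso_fac_right (hh := hid) hh
      exact isIso_stalk_of_isIso_pull_map A z _
    · obtain ⟨u₁⟩ := h x hx
      obtain ⟨u₂⟩ := unique_stalk_push A hi ((TopCat.Sheaf.pullback A i).obj F) hx
      refine (ConcreteCategory.isIso_iff_bijective _).2 ⟨fun a b _ => ?_, fun b => ⟨u₁.default, ?_⟩⟩
      · exact @Subsingleton.elim _ u₁.instSubsingleton _ _
      · exact @Subsingleton.elim _ u₂.instSubsingleton _ _
  have : ∀ x : X, IsIso ((TopCat.Presheaf.stalkFunctor A x).map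
      ((TopCat.Sheaf.pullbackPushforwardAdjunction A i).unit.app F).hom) := this
  exact TopCat.Presheaf.isIso_of_stalkFunctor_map_iso _

theorem essImage_iff (hi : Topology.IsClosedEmbedding i) (F : X.Sheaf A) :
    (TopCat.Sheaf.pushforward A i).essImage F ↔
      ∀ x : X, x ∉ Set.range i → Nonempty (Unique (ToType (F.presheaf.stalk x))) := by
  constructor
  · rintro ⟨G, ⟨e⟩⟩ x hx
    obtain ⟨u₁⟩ := unique_stalk_push A hi G hx
    exact ⟨@Equiv.unique _ _ u₁ ((CategoryTheory.forget A).mapIso ((stalkF A x).mapIso e)).toEquiv.symm⟩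
  · intro h
    have := isIso_unit A hi F h
    exact ⟨_, ⟨(asIso ((TopCat.Sheaf.pullbackPushforwardAdjunction A i).unit.app F)).symm⟩⟩

end

end GrothLib.ClosedEmb
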